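import Groth.Agent.BddFin.K844.BirGeom
import Groth.Agent.SGA3x.K197.RatNodes

/-!
# A reduced scheme with purely transcendental function field is rational

Node N2 of the rationality of the scheme of maximal tori.
-/

set_option autoImplicit false
universe u
open CategoryTheory Limits AlgebraicGeometry
open Groth.Agent.Books.AffBridge
open K844

namespace K254.RatOpen

theorem frac_aeval {k F : Type u} [Field k] [Field F] [Algebra k F] {n : ℕ} (t : Fin n → F)
    (htop : IntermediateField.adjoin k (Set.range t) = ⊤) :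
    BirAlg.Frac (MvPolynomial.aeval (R := k) (fun i : ULift.{u} (Fin n) => t i.down)) := by
  intro x
  have hx : x ∈ IntermediateField.adjoin k (Set.range (fun i : ULift.{u} (Fin n) => t i.down)) := by
    have h1 : Set.range (fun i : ULift.{u} (Fin n) => t i.down) = Set.range t := by
      ext y
      constructor
      · rintro ⟨i, rfl⟩
        exact ⟨i.down, rfl⟩
      · rintro ⟨i, rfl⟩
        exact ⟨⟨i⟩, rfl⟩
    rw [h1, htop]
    trivial
  rw [IntermediateField.mem_adjoin_range_iff] at hx
  obtain ⟨r, s, hrs⟩ := hx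
  by_cases hs : MvPolynomial.aeval (R := k) (fun i : ULift.{u} (Fin n) => t i.down) s = 0
  · refine ⟨0, 1, by simp, ?_⟩
    rw [hrs, hs]
    simp
  · exact ⟨r, s, hs, hrs⟩

theorem injective_aeval {k F : Type u} [Field k] [Field F] [Algebra k F] {n : ℕ} (t : Fin n → F)
    (ht : AlgebraicIndependent k t) :
    Function.Injective (MvPolynomial.aeval (R := k) (fun i : ULift.{u} (Fin n) => t i.down)) := by
  have h1 : AlgebraicIndependent k (fun i : ULift.{u} (Fin n) => t i.down) :=
    ht.comp (fun i : ULift.{u} (Fin n) => i.down) (fun a b h => ULift.ext _ _ h)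
  exact h1

theorem main : K197.Rat.N2_exists_open.{u} := by
  intro k F _ _ _ X _ _ x hx hxk hgen hPT
  obtain ⟨p, φ, rfl⟩ := hx
  have hp : (Spec.map φ.hom ≫ X.left.fromSpecResidueField p) (IsLocalRing.closedPoint F) = p := by
    refine (Scheme.Hom.comp_apply (Spec.map φ.hom) (X.left.fromSpecResidueField p) _).trans ?_
    exact Scheme.fromSpecResidueField_apply _ _
  rw [hp] at hgen
  have hirr : IrreducibleSpace X.left := by
    have h1 : IsIrreducible (Set.univ : Set X.left) := by
      rw [← hgen]
      exact isIrreducible_singleton.closure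
    exact { toPreirreducibleSpace := ⟨h1.2⟩, toNonempty := ⟨p⟩ }
  have hint : IsIntegral X.left := isIntegral_of_irreducibleSpace_of_isReduced _
  obtain rfl : genericPoint X.left = p :=
    (genericPoint_spec X.left).eq (show IsGenericPoint p Set.univ from hgen)
  obtain ⟨_, ⟨U, hU, rfl⟩, hηU, -⟩ := X.left.isBasis_affineOpens.exists_subset_of_mem_open
    (Set.mem_univ (genericPoint X.left)) isOpen_univ
  replace hU : IsAffineOpen U := hU
  have hUn : Nonempty U := ⟨⟨_, hηU⟩⟩
  let κ : k →+* Γ(X.left, U) := (Spec.preimage (hU.fromSpec ≫ X.hom)).hom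
  have hκ : Spec.map (CommRingCat.ofHom κ) = hU.fromSpec ≫ X.hom := Spec.map_preimage _
  let alC : Algebra k Γ(X.left, U) := κ.toAlgebra
  let ρ : X.left.functionField →+* F :=
    (X.left.residue (genericPoint X.left) ≫ φ.hom).hom
  let i₀ : Γ(X.left, U) →+* F := ρ.comp (algebraMap Γ(X.left, U) X.left.functionField)
  have hi₀ : Spec.map (CommRingCat.ofHom i₀) ≫ hU.fromSpec =
      Spec.map φ.hom ≫ X.left.fromSpecResidueField (genericPoint X.left) := by
    have h1 : CommRingCat.ofHom i₀ = X.left.germToFunctionField U ≫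
        X.left.residue (genericPoint X.left) ≫ φ.hom := rfl
    rw [h1, Spec.map_comp, Spec.map_comp, Category.assoc, Category.assoc, Scheme.fromSpecResidueField,
      ← hU.fromSpecStalk_eq_fromSpecStalk hηU, IsAffineOpen.fromSpecStalk]
  have hcomp : i₀.comp κ = algebraMap k F := by
    have h1 : CommRingCat.ofHom κ ≫ CommRingCat.ofHom i₀ = CommRingCat.ofHom (algebraMap k F) := by
      apply Spec.map_injective
      rw [Spec.map_comp, hκ, ← Category.assoc, hi₀]
      exact hxk
    exact congrArg (fun f => f.hom) h1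
  let i : Γ(X.left, U) →ₐ[k] F :=
    { i₀ with
      commutes' := fun r => DFunLike.congr_fun hcomp r }
  have hfr : IsFractionRing Γ(X.left, U) X.left.functionField :=
    functionField_isFractionRing_of_isAffineOpen X.left U hU
  have hρ : Function.Injective ρ := ρ.injective
  have hρ' : Function.Surjective ρ := by
    have h2 : Function.Surjective φ.hom := (ConcreteCategory.bijective_of_isIso φ.hom).2
    exact h2.comp (X.left.residue_surjective _)
  have hi : Function.Injective i := hρ.comp (IsFractionRing.injective Γ(X.left, U) X.left.functionField)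
  have hFr : BirAlg.Frac i := by
    intro y
    obtain ⟨z, rfl⟩ := hρ' y
    obtain ⟨u, v, hv, rfl⟩ := IsFractionRing.div_surjective (A := Γ(X.left, U)) z
    refine ⟨u, v, ?_, ?_⟩
    · intro h0
      have := hi (h0.trans (map_zero i).symm)
      exact nonZeroDivisors.ne_zero hv this
    · rw [map_div₀]
      rfl
  have hft : Algebra.FiniteType k Γ(X.left, U) := by
    have h1 : LocallyOfFiniteType (Spec.map (CommRingCat.ofHom κ)) := by
      rw [hκ]; infer_instance
    rw [HasRingHomProperty.Spec_iff (P := @LocallyOfFiniteType)] at h1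
    exact h1
  obtain ⟨n, t, hti, htt⟩ := hPT
  set j : MvPolynomial (ULift.{u} (Fin n)) k →ₐ[k] F :=
    MvPolynomial.aeval (R := k) (fun i : ULift.{u} (Fin n) => t i.down) with hj
  have hinj : Function.Injective j := injective_aeval t hti
  have hFr' : BirAlg.Frac j := frac_aeval t htt
  obtain ⟨c, d, hc, hd, hcd⟩ := BirAlg.exists_common hFr hFr'
  let e : BirAlg.aw i c ≃ₐ[k] BirAlg.aw j d := Subalgebra.equivOfEq _ _ hcd
  let W : Scheme.{u} := Spec (CommRingCat.of (BirAlg.aw i c))
  let p : W ⟶ X.left := Spec.map (CommRingCat.ofHom (BirAlg.toAw i c).toRingHom) ≫ hU.fromSpec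
  let q : W ⟶ AffineSpace (ULift.{u} (Fin n)) (Spec (CommRingCat.of k)) :=
    Spec.map (CommRingCat.ofHom (e.symm : BirAlg.aw j d →ₐ[k] BirAlg.aw i c).toRingHom) ≫
      Spec.map (CommRingCat.ofHom (BirAlg.toAw j d).toRingHom) ≫
      (AffineSpace.SpecIso (ULift.{u} (Fin n)) (CommRingCat.of k)).inv
  have hp1 : IsOpenImmersion (Spec.map (CommRingCat.ofHom (BirAlg.toAw i c).toRingHom)) := by
    let _ := (BirAlg.toAw i c).toRingHom.toAlgebra
    have := BirAlg.isLocalization_aw i hi c hc
    exact IsOpenImmersion.of_isLocalization (S := BirAlg.aw i c) c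
  have hq1 : IsOpenImmersion (Spec.map (CommRingCat.ofHom (BirAlg.toAw j d).toRingHom)) := by
    let _ := (BirAlg.toAw j d).toRingHom.toAlgebra
    have := BirAlg.isLocalization_aw j hinj d hd
    exact IsOpenImmersion.of_isLocalization (S := BirAlg.aw j d) d
  have hp' : IsOpenImmersion p := inferInstance
  have he : IsIso (Spec.map (CommRingCat.ofHom (e.symm : BirAlg.aw j d →ₐ[k] BirAlg.aw i c).toRingHom)) := by
    have h1 : IsIso (CommRingCat.ofHom (e.symm : BirAlg.aw j d →ₐ[k] BirAlg.aw i c).toRingHom) := by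
      rw [ConcreteCategory.isIso_iff_bijective]
      exact e.symm.bijective
    infer_instance
  have hq : IsOpenImmersion q := inferInstance
  have hpK : p ≫ X.hom = Spec.map (CommRingCat.ofHom (algebraMap k (BirAlg.aw i c))) := by
    rw [Category.assoc, ← hκ, ← Spec.map_comp, ← CommRingCat.ofHom_comp]
    congr 2
    exact (BirAlg.toAw i c).comp_algebraMap
  have hqK : q ≫ (AffineSpace (ULift.{u} (Fin n)) (Spec (CommRingCat.of k)) ↘ (Spec (CommRingCat.of k))) =
      Spec.map (CommRingCat.ofHom (algebraMap k (BirAlg.aw i c))) := by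
    change (Spec.map _ ≫ Spec.map _ ≫ (AffineSpace.SpecIso (ULift.{u} (Fin n)) (CommRingCat.of k)).inv) ≫
      (AffineSpace (ULift.{u} (Fin n)) (Spec (CommRingCat.of k)) ↘ Spec (CommRingCat.of k)) = _
    rw [Category.assoc, Category.assoc, AffineSpace.SpecIso_inv_over, ← Spec.map_comp, ← Spec.map_comp]
    apply congrArg Spec.map
    apply congrArg CommRingCat.ofHom
    apply RingHom.ext
    intro r
    change e.symm (BirAlg.toAw j d (MvPolynomial.C r)) = _
    have h1 : (MvPolynomial.C r : MvPolynomial (ULift.{u} (Fin n)) k) =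
      algebraMap k _ r := rfl
    rw [h1, AlgHom.commutes, AlgEquiv.commutes]
  refine ⟨n, p.opensRange, q.opensRange, p.isoOpensRange.symm ≪≫ q.isoOpensRange, ?_, ?_⟩
  · obtain ⟨w⟩ : Nonempty W := inferInstanceAs (Nonempty (PrimeSpectrum (BirAlg.aw i c)))
    exact ⟨p w, w, rfl⟩
  · change (p.isoOpensRange.inv ≫ q.isoOpensRange.hom) ≫ q.opensRange.ι ≫ _ = p.opensRange.ι ≫ X.hom
    rw [Category.assoc, ← Category.assoc q.isoOpensRange.hom, Scheme.Hom.isoOpensRange_hom_ι, hqK, ← hpK,
      ← Category.assoc, Scheme.Hom.isoOpensRange_inv_comp]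

end K254.RatOpen
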